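import Groth.Agent.EulerChar.AmpleCurve
import Groth.Agent.FormalExist.Cover
import Groth.Agent.CohLin.Basic
import Groth.Agent.GrModLib.EventExact
import Groth.Agent.ProjTwist.Tensor
import Groth.Agent.VBLib.Basic
import Groth.Agent.KFlat.FlatQuot
import Groth.Prelude.Def_Curv2

/-!
# Global generation and `H¹`-vanishing along right exact sequences on curves

On a proper scheme of dimension one `H¹` is right exact; consequences for globally generated modules.
-/

set_option autoImplicit false

universe u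

open CategoryTheory Limits AlgebraicGeometry Opposite

noncomputable section

namespace Groth.Agent.DefAmple27

section General

variable {X : Scheme.{u}}

/-- A module with an epimorphism from a coproduct of copies of `O` is globally generated. -/
theorem gg_of_desc {ι : Type u} {G : X.Modules} (f : ι → (Coh.structureModule X ⟶ G))
    (hf : Epi (Sigma.desc f)) : Curv2.IsGloballyGenerated G :=
  ⟨ι, Sigma.desc f, hf⟩

theorem exists_desc {G : X.Modules} (h : Curv2.IsGloballyGenerated G) :
    ∃ (ι : Type u) (p : (∐ fun _ : ι => Coh.structureModule X) ⟶ G), Epi p := h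

theorem gg_of_epi {A B : X.Modules} (e : A ⟶ B) (he : Epi e) (h : Curv2.IsGloballyGenerated A) :
    Curv2.IsGloballyGenerated B := by
  obtain ⟨ι, p, hp⟩ := h
  exact ⟨ι, p ≫ e, @epi_comp _ _ _ _ _ p hp e he⟩

theorem gg_sigma {κ : Type u} (F : κ → X.Modules) (h : ∀ j, Curv2.IsGloballyGenerated (F j)) :
    Curv2.IsGloballyGenerated (∐ F) := by
  choose ι p hp using fun j => exists_desc (h j)
  refine gg_of_desc (ι := Σ j, ι j) (fun x => Sigma.ι (fun _ : ι x.1 => Coh.structureModule X) x.2 ≫
    p x.1 ≫ Sigma.ι F x.1) ⟨fun {Z} a b hab => Sigma.hom_ext _ _ fun j => ?_⟩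
  haveI := hp j
  refine (cancel_epi (p j)).1 (Sigma.hom_ext (f := fun _ : ι j => Coh.structureModule X) _ _ fun i => ?_)
  have h1 := congrArg (fun w => Sigma.ι (fun _ : (Σ j, ι j) => Coh.structureModule X) ⟨j, i⟩ ≫ w) hab
  simp only [Sigma.ι_desc_assoc, Category.assoc] at h1
  exact h1

/-- An extension of globally generated modules whose kernel has no `H¹` is globally generated. -/
theorem gg_of_shortExact {S : ShortComplex X.Modules} (hS : S.ShortExact)
    (hH : Subsingleton (Coh.HH X S.X₁ 1)) (h₁ : Curv2.IsGloballyGenerated S.X₁)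
    (h₃ : Curv2.IsGloballyGenerated S.X₃) : Curv2.IsGloballyGenerated S.X₂ := by
  obtain ⟨ι₁, p₁, hp₁⟩ := exists_desc h₁
  obtain ⟨ι₃, p₃, hp₃⟩ := exists_desc h₃
  have hl : ∀ j, ∃ t : Coh.structureModule X ⟶ S.X₂,
      t ≫ S.g = Sigma.ι (fun _ : ι₃ => Coh.structureModule X) j ≫ p₃ := by
    intro j
    let s : Coh.structureModule X ⟶ S.X₃ := Sigma.ι (fun _ : ι₃ => Coh.structureModule X) j ≫ p₃
    obtain ⟨σ, hσ⟩ := GrModLib.topMap_g_surjective hS (Props.GenLocus.sec s ⊤)
    refine ⟨Props.GenLocus.homOfSec σ, ?_⟩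
    refine Scheme.Modules.hom_ext _ _ fun U => ?_
    refine ConcreteCategory.hom_ext _ _ fun a => ?_
    have hsec : Props.GenLocus.sec (Props.GenLocus.homOfSec σ ≫ S.g) U = Props.GenLocus.sec s U := by
      rw [← Props.GenLocus.sec_res (Props.GenLocus.homOfSec σ ≫ S.g) (le_top : U ≤ ⊤),
        ← Props.GenLocus.sec_res s (le_top : U ≤ ⊤)]
      refine congrArg _ ?_
      refine Eq.trans ?_ hσ
      exact congrArg (S.g.app ⊤) ((Props.GenLocus.sec_homOfSec σ ⊤).trans (QCoh.res_self _ le_top σ))
    exact (Props.GenLocus.app_eq _ U a).trans ((congrArg ((show Γ(X, U) from a) • ·) hsec).trans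
      (Props.GenLocus.app_eq s U a).symm)
  choose t ht using hl
  refine gg_of_desc (ι := ι₁ ⊕ ι₃)
    (Sum.elim (fun i => Sigma.ι (fun _ : ι₁ => Coh.structureModule X) i ≫ p₁ ≫ S.f) t)
    ⟨fun {Z} a b hab => sub_eq_zero.mp ?_⟩
  have hd : Sigma.desc (Sum.elim (fun i => Sigma.ι (fun _ : ι₁ => Coh.structureModule X) i ≫ p₁ ≫ S.f) t) ≫
      (a - b) = 0 := by rw [Preadditive.comp_sub, hab, sub_self]
  have hi : ∀ x, Sum.elim (fun i => Sigma.ι (fun _ : ι₁ => Coh.structureModule X) i ≫ p₁ ≫ S.f) t x ≫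
      (a - b) = 0 := fun x => by
    have := congrArg (fun w => Sigma.ι (fun _ : ι₁ ⊕ ι₃ => Coh.structureModule X) x ≫ w) hd
    simp only [Sigma.ι_desc_assoc, comp_zero] at this
    exact this
  have h₁' : S.f ≫ (a - b) = 0 := by
    refine (cancel_epi p₁).1 (Sigma.hom_ext (f := fun _ : ι₁ => Coh.structureModule X) _ _ fun i => ?_)
    rw [comp_zero, comp_zero]
    have := hi (Sum.inl i)
    simpa only [Sum.elim_inl, Category.assoc] using this
  haveI := hS.epi_g
  obtain ⟨c, hc⟩ := CokernelCofork.IsColimit.desc' hS.exact.gIsCokernel (a - b) h₁'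
  have hc' : S.g ≫ c = a - b := hc
  have : p₃ ≫ c = 0 := Sigma.hom_ext (f := fun _ : ι₃ => Coh.structureModule X) _ _ fun j => by
    rw [comp_zero, ← Category.assoc, ← ht j, Category.assoc, hc']
    exact hi (Sum.inr j)
  rw [← hc', zero_of_epi_comp p₃ this, comp_zero]

/-- The image of a family generating `A` generates `G A`. -/
theorem epi_desc_map {C D : Type*} [Category C] [Category D] (G : C ⥤ D) [G.PreservesEpimorphisms]
    {ι : Type u} [HasCoproductsOfShape ι C] [HasCoproductsOfShape ι D]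
    [PreservesColimitsOfShape (Discrete ι) G] {B A : C} (f : ι → (B ⟶ A)) [Epi (Sigma.desc f)] :
    Epi (Sigma.desc fun i => G.map (f i)) := by
  rw [← sigmaComparison_map_desc]
  infer_instance

end General

section Curve

variable {k : Type u} [Field k] {X : Scheme.{u}} [X.Over (Spec (CommRingCat.of k))]
  [IsProper (X ↘ Spec (CommRingCat.of k))] (hdim : topologicalKrullDim X = 1)

include k hdim

/-- `H¹` takes epimorphisms to surjections. -/
theorem h1_of_epi {A B : X.Modules} (g : A ⟶ B) [Epi g] (h : Subsingleton (Coh.HH X A 1)) :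
    Subsingleton (Coh.HH X B 1) := by
  let C := ShortComplex.mk (kernel.ι g) g (kernel.condition g)
  have hC : C.ShortExact := { exact := ShortComplex.exact_of_f_is_kernel _ (kernelIsKernel g) }
  haveI : Subsingleton (Coh.HH X C.X₁ (1 + 1)) :=
    EulerChar.subsingleton_HH_two_le k hdim _ one_lt_two
  haveI : Subsingleton (Coh.HH X C.X₂ 1) := h
  exact CohLin.subsingleton_X₃ hC (n := 1)

/-- `H¹` of the middle term of a right exact sequence. -/
theorem h1_of_exact {S : ShortComplex X.Modules} (hS : S.Exact) [Epi S.g]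
    (h₁ : Subsingleton (Coh.HH X S.X₁ 1)) (h₃ : Subsingleton (Coh.HH X S.X₃ 1)) :
    Subsingleton (Coh.HH X S.X₂ 1) := by
  let C := ShortComplex.mk (kernel.ι S.g) S.g (kernel.condition S.g)
  have hC : C.ShortExact := { exact := ShortComplex.exact_of_f_is_kernel _ (kernelIsKernel S.g) }
  haveI := hS.epi_kernelLift
  haveI : Subsingleton (Coh.HH X C.X₁ 1) := h1_of_epi (k := k) hdim (kernel.lift S.g S.f S.zero) h₁
  haveI : Subsingleton (Coh.HH X C.X₃ 1) := h₃
  exact CohLin.subsingleton_X₂ hC (n := 1)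

/-- A globally generated coherent module has no `H¹` if `O` has none. -/
theorem h1_of_gg (h0 : Subsingleton (Coh.HH X (Coh.structureModule X) 1)) {M : X.Modules}
    (hM : Coh.IsCoh M) (hg : Curv2.IsGloballyGenerated M) : Subsingleton (Coh.HH X M 1) := by
  haveI := EulerChar.isNoetherian k (X := X)
  obtain ⟨ι, hι, f, hf⟩ := FormalExist.Cover.exists_fin_epi hM hg
  haveI : ∀ _ : ι, Subsingleton (Coh.HH X (Coh.structureModule X) 1) := fun _ => h0
  exact h1_of_epi (k := k) hdim (Sigma.desc f) (CohLin.subsingleton_sigma _ 1)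

end Curve

end Groth.Agent.DefAmple27

namespace Groth.Agent.DefAmple27

variable {X : Scheme.{u}}

abbrev tensL (W : X.Modules) : ModSite.Mod X.sheaf ⥤ ModSite.Mod X.sheaf :=
  (ModSite.tensorBi X.sheaf).obj W

/-- `A ↦ W ⊗ A`. -/
def tL (W : X.Modules) : X.Modules ⥤ X.Modules := tensL W

theorem preservesColimitsOfShape_tL (W : X.Modules) (ι : Type u) [Finite ι] :
    PreservesColimitsOfShape (Discrete ι) (tL W) := by
  obtain ⟨n, ⟨e⟩⟩ := Finite.exists_equiv_fin ι
  haveI : PreservesColimitsOfShape (Discrete (Fin n)) (tensL W) := ⟨fun {D} => inferInstance⟩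
  haveI : PreservesColimitsOfShape (Discrete ι) (tensL W) :=
    preservesColimitsOfShape_of_equiv (Discrete.equivalence e.symm) (tensL W)
  exact (this : PreservesColimitsOfShape (Discrete ι) (tensL W))

theorem preservesEpimorphisms_tL (W : X.Modules) : (tL W).PreservesEpimorphisms :=
  (inferInstance : (tensL W).PreservesEpimorphisms)

theorem tL_obj (W A : X.Modules) : (tL W).obj A = CohB1.tensorMod W A := rfl

/-- Tensoring a finite generating family: `W ⊗ A` is a quotient of finitely many copies of `W`. -/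
theorem exists_epi_tensor [CompactSpace X] (W : X.Modules) {A : X.Modules} (hA : Coh.IsCoh A)
    (hg : Curv2.IsGloballyGenerated A) :
    ∃ (ι : Type u) (_ : Finite ι) (p : (∐ fun _ : ι => W) ⟶ CohB1.tensorMod W A), Epi p := by
  obtain ⟨ι, hι, f, hf⟩ := FormalExist.Cover.exists_fin_epi hA hg
  haveI := preservesColimitsOfShape_tL W ι
  haveI := preservesEpimorphisms_tL W
  haveI : Epi (Sigma.desc f) := hf
  have h := epi_desc_map (tL W) f
  let e : W ≅ (tL W).obj (Coh.structureModule X) := (ProjTwist.tensOne W).symm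
  exact ⟨ι, hι, Limits.Sigma.map (fun _ : ι => e.hom) ≫ Sigma.desc (fun i => (tL W).map (f i)),
    @epi_comp _ _ _ _ _ _ inferInstance _ h⟩

theorem gg_tensor [CompactSpace X] {W A : X.Modules} (hW : Curv2.IsGloballyGenerated W)
    (hA : Coh.IsCoh A) (hg : Curv2.IsGloballyGenerated A) :
    Curv2.IsGloballyGenerated (CohB1.tensorMod W A) := by
  obtain ⟨ι, hι, p, hp⟩ := exists_epi_tensor W hA hg
  exact gg_of_epi p hp (gg_sigma _ fun _ => hW)

section Site

open ModSite

variable {C : Type u} [SmallCategory C] {J : GrothendieckTopology C} {O : Sheaf J CommRingCat.{u}}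

/-- Tensoring sheaves of modules is right exact. -/
theorem exact_tensorBi_map (W : Mod O) {S : ShortComplex (Mod O)} (hS : S.Exact) (hg : Epi S.g) :
    (S.map ((tensorBi O).obj W)).Exact ∧ Epi (((tensorBi O).obj W).map S.g) :=
  ⟨hS.map_of_epi_of_preservesCokernel _ hg inferInstance, inferInstance⟩

end Site

/-- Tensoring is right exact. -/
theorem exists_exact_tensor (W : X.Modules) {S : ShortComplex X.Modules} (hS : S.Exact) (hg : Epi S.g) :
    ∃ (f : CohB1.tensorMod W S.X₁ ⟶ CohB1.tensorMod W S.X₂)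
      (g : CohB1.tensorMod W S.X₂ ⟶ CohB1.tensorMod W S.X₃) (w : f ≫ g = 0),
      (ShortComplex.mk f g w).Exact ∧ Epi g := by
  obtain ⟨h₁, h₂⟩ := exact_tensorBi_map (O := X.sheaf) W (S := S) hS hg
  exact ⟨_, _, _, h₁, h₂⟩

end Groth.Agent.DefAmple27
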