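import Groth.Agent.DefAmple27.Basic
import Groth.Agent.ProjTwist.Pn.PointSupport
import Groth.Agent.EulerChar.CurvePoint
import Groth.Agent.EulerChar.Cartier
import Groth.Agent.KFlat.StalkTensor

/-!
# Punctual modules on curves and the ideal of a point
-/

set_option autoImplicit false
set_option linter.style.haveILetI false

universe u

open CategoryTheory Limits AlgebraicGeometry TopologicalSpace Opposite
open Groth.Agent.PullStalk.Sky Groth.Agent.PullStalk.Exact
open scoped TensorProduct

noncomputable section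

namespace Groth.Agent.DefAmple27

variable {X : Scheme.{u}}

/-- A coherent module all of whose support points are closed has finite support. -/
theorem finite_support_of_closed_points [NoetherianSpace X] {M : X.Modules} (hM : Coh.IsCoh M)
    (hcl : ∀ x ∈ CohB1.support M, IsClosed ({x} : Set X)) : (CohB1.support M).Finite := by
  obtain ⟨F, hFfin, hFc, hFirr, hSF⟩ :=
    NoetherianSpace.exists_finite_set_isClosed_irreducible (CohDev.isClosed_support hM)
  refine hSF ▸ hFfin.sUnion fun t ht => Set.Subsingleton.finite fun a ha b hb => ?_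
  obtain ⟨g, hg⟩ := QuasiSober.sober (hFirr t ht) (hFc t ht)
  have hgS : g ∈ CohB1.support M := hSF ▸ Set.mem_sUnion.2 ⟨t, ht, hg.mem⟩
  have e : t = {g} := hg.def.symm.trans (hcl g hgS).closure_eq
  rw [e] at ha hb
  exact ha.trans hb.symm

/-- No higher cohomology for punctual modules. -/
theorem h_subsingleton_of_punctual {M : X.Modules} (hfin : (CohB1.support M).Finite)
    (hcl : ∀ x ∈ CohB1.support M, IsClosed ({x} : Set X)) (q : ℕ) :
    Subsingleton (Coh.HH X M (q + 1)) :=
  @CohTop.Flasque.H_subsingleton X.toTopCat (Coh.toAb M)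
    (ProjTwist.Pn.isFlasque_of_finite_support M hfin hcl) q

/-- Punctual modules are globally generated. -/
theorem gg_of_punctual {M : X.Modules} (hfin : (CohB1.support M).Finite)
    (hcl : ∀ x ∈ CohB1.support M, IsClosed ({x} : Set X)) : Curv2.IsGloballyGenerated M := by
  haveI := ProjTwist.Pn.isFlasque_of_finite_support M hfin hcl
  refine GGDesc.isGloballyGenerated_of_globSpan fun y => top_le_iff.mp fun t _ => ?_
  obtain ⟨U, hy, m, rfl⟩ := exists_germM_eq M y t
  obtain ⟨σ, rfl⟩ := (AddCommGrpCat.epi_iff_surjective ((Coh.toAb M).obj.map (homOfLE (le_top : U ≤ ⊤)).op)).1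
    (TopCat.Presheaf.IsFlasque.epi (F := (Coh.toAb M).obj) _) m
  exact Submodule.subset_span ⟨σ, (GGDesc.germM_res_eq M le_top y hy σ).symm⟩

theorem support_tensor_subset (M N : X.Modules) :
    CohB1.support (CohB1.tensorMod M N) ⊆ CohB1.support N := by
  intro x hx hN
  apply hx
  haveI : Subsingleton (N.presheaf.stalk x) := hN
  haveI : Subsingleton (M.presheaf.stalk x ⊗[X.presheaf.stalk x] N.presheaf.stalk x) :=
    subsingleton_of_forall_eq 0 fun z => by
      induction z using TensorProduct.induction_on with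
      | zero => rfl
      | tmul m n => rw [Subsingleton.elim n 0, TensorProduct.tmul_zero]
      | add a b ha hb => rw [ha, hb, add_zero]
  exact (KFlat.StalkTensor.stalkTensorEquiv M N x).toEquiv.subsingleton

section Point

variable {k : Type u} [Field k] [IsAlgClosed k] [X.Over (Spec (CommRingCat.of k))]
  [IsProper (X ↘ Spec (CommRingCat.of k))]

include k in
theorem finrank_quotMod_closedPoint {p : X} (hp : IsClosed ({p} : Set X)) :
    Module.finrank k (Coh.HH X
      (ClSub.quotMod (Scheme.IdealSheafData.vanishingIdeal ⟨{p}, hp⟩)) 0) = 1 := by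
  let D := Scheme.IdealSheafData.vanishingIdeal (⟨{p}, hp⟩ : Closeds X)
  haveI : IsIntegral D.subscheme := Groth.Agent.S16188.isIntegral_subscheme _ isIrreducible_singleton
  letI : D.subscheme.Over (Spec (CommRingCat.of k)) := ⟨D.subschemeι ≫ (X ↘ Spec (CommRingCat.of k))⟩
  haveI : IsProper (D.subscheme ↘ Spec (CommRingCat.of k)) :=
    inferInstanceAs (IsProper (D.subschemeι ≫ (X ↘ Spec (CommRingCat.of k))))
  obtain ⟨e⟩ := EulerChar.nonempty_pushEquiv D.subschemeι (A := k) rfl (Coh.structureModule D.subscheme)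
    (ProjTwist.isQuasicoherent_structureModule D.subscheme) 0
  exact e.finrank_eq.trans (VBLib.finrank_H0_structure_eq_one VBLib.bijective_toGlobal_of_isAlgClosed)

include k in
/-- If `O` has no `H¹`, neither has the ideal of a point. -/
theorem h1_pointIdeal (h0 : Subsingleton (Coh.HH X (Coh.structureModule X) 1)) {p : X}
    (hp : IsClosed ({p} : Set X)) :
    Subsingleton (Coh.HH X (ClSub.idealMod (Scheme.IdealSheafData.vanishingIdeal ⟨{p}, hp⟩)) 1) := by
  let D := Scheme.IdealSheafData.vanishingIdeal (⟨{p}, hp⟩ : Closeds X)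
  let S := ShortComplex.mk (ClSub.idealModι D) (ClSub.toSubscheme D) (kernel.condition _)
  have hS : S.ShortExact := EulerChar.shortExact_ideal D
  have h1 := finrank_quotMod_closedPoint (k := k) hp
  obtain ⟨x, hx⟩ : ∃ x, CohLin.hMap S.g 0 x ≠ 0 := by
    by_contra h
    push Not at h
    have htop : ∀ y, GrModLib.topMap S.g y = 0 := fun y => by
      let e₂ := Sheaf.H.equiv₀ (Coh.toAb S.X₂) isTerminalTop
      obtain ⟨z, rfl⟩ := e₂.surjective y
      refine (Sheaf.H.equiv₀_naturality _ _ z).trans ?_
      exact (congrArg _ (h z)).trans (map_zero _)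
    have hsec : Props.GenLocus.sec S.g ⊤ = 0 := htop _
    have hg : S.g = 0 := Scheme.Modules.hom_ext _ _ fun U => ConcreteCategory.hom_ext _ _ fun a => by
      refine (Props.GenLocus.app_eq S.g U a).trans ?_
      rw [← Props.GenLocus.sec_res S.g (le_top : U ≤ ⊤), hsec, map_zero, smul_zero]
      rfl
    haveI := hS.epi_g
    have hz : IsZero S.X₃ := (IsZero.iff_id_eq_zero _).2 (by
      rw [← cancel_epi S.g, hg, zero_comp, zero_comp])
    have : Subsingleton (Coh.HH X S.X₃ 0) := subsingleton_of_forall_eq 0 fun z => by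
      rw [← CohLin.hMap_id S.X₃ 0 z, hz.eq_of_src (𝟙 S.X₃) 0]
      exact map_zero (CohLin.hMapHom S.X₃ S.X₃ 0 z)
    have h0' : Module.finrank k (Coh.HH X S.X₃ 0) = 0 := Module.finrank_zero_of_subsingleton
    exact one_ne_zero (h1.symm.trans h0')
  refine subsingleton_of_forall_eq 0 fun y => ?_
  obtain ⟨z, rfl⟩ := CohLin.exists_hδ_eq hS (n := 0) y (Subsingleton.elim _ _)
  obtain ⟨c, hc⟩ := (finrank_eq_one_iff_of_nonzero' (CohLin.overLin k (CohLin.hMap S.g 0) x)
    (by rwa [CohLin.overLin_apply])).1 h1 z
  rw [← hc, ← map_smul, CohLin.overLin_apply]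
  exact CohLin.hδ_hMap_g hS _

end Point

end Groth.Agent.DefAmple27
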